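import Groth.Agent.Lib.AdeqMod20.Cartan
import Groth.Agent.Lib.BigEt.Fppf.Push
import Groth.Prelude.Def_CGrpSh2
import Groth.Prelude.Def_GmPts
import Mathlib.RingTheory.TensorProduct.Free
import Mathlib.RingTheory.Jacobson.Ring

/-!
# Hilbert's theorem 90 for the big fppf site of a field
-/

set_option autoImplicit false
set_option backward.isDefEq.respectTransparency false
set_option backward.isDefEq.respectTransparency.types false
set_option linter.style.haveILetI false

universe u

open CategoryTheory CategoryTheory.Limits Opposite AlgebraicGeometry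
open scoped TensorProduct

noncomputable section

namespace GrothLib.H90Fppf13

section Algebra

variable {k L : Type*} [Field k] [Field L] [Algebra k L]

/-- The first face of a two-fold tensor product. -/
abbrev f12 : L ⊗[k] L →ₐ[k] (L ⊗[k] L) ⊗[k] L := Algebra.TensorProduct.includeLeft

/-- The second face of a two-fold tensor product. -/
abbrev f13 : L ⊗[k] L →ₐ[k] (L ⊗[k] L) ⊗[k] L :=
  Algebra.TensorProduct.map Algebra.TensorProduct.includeLeft (AlgHom.id k L)

/-- The third face of a two-fold tensor product. -/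
abbrev f23 : L ⊗[k] L →ₐ[k] (L ⊗[k] L) ⊗[k] L :=
  Algebra.TensorProduct.map Algebra.TensorProduct.includeRight (AlgHom.id k L)

/-- Amitsur's form of Hilbert 90. -/
theorem exists_unit_of_cocycle (u : L ⊗[k] L) (hu : IsUnit u) (hcoc : f13 u = f12 u * f23 u) :
    ∃ x : L, x ≠ 0 ∧ x ⊗ₜ[k] (1 : L) = u * ((1 : L) ⊗ₜ[k] x) := by
  classical
  let b := Module.Free.chooseBasis k L
  obtain ⟨i, hi⟩ : ∃ i, TensorProduct.equivFinsuppOfBasisRight b u i ≠ 0 := by
    by_contra h
    push Not at h
    have h0 : TensorProduct.equivFinsuppOfBasisRight b u = 0 := Finsupp.ext fun i => by simpa using h i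
    have : u = 0 := (LinearEquiv.map_eq_zero_iff _).1 h0
    exact hu.ne_zero this
  let lam : L →ₗ[k] k := b.coord i
  let sl : L ⊗[k] L →ₗ[k] L := (TensorProduct.rid k L).toLinearMap ∘ₗ lam.lTensor L
  let big : (L ⊗[k] L) ⊗[k] L →ₗ[k] L ⊗[k] L :=
    (TensorProduct.rid k (L ⊗[k] L)).toLinearMap ∘ₗ lam.lTensor (L ⊗[k] L)
  have hsl : ∀ z : L ⊗[k] L, TensorProduct.equivFinsuppOfBasisRight b z i = sl z := by
    intro z
    induction z using TensorProduct.induction_on with
    | zero => simp
    | add p q hp hq => simp [map_add, hp, hq]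
    | tmul p q => simp [sl, lam]
  have hmap : ∀ (f : L →ₐ[k] L ⊗[k] L) (z : L ⊗[k] L),
      big (Algebra.TensorProduct.map f (AlgHom.id k L) z) = f (sl z) := by
    intro f z
    induction z using TensorProduct.induction_on with
    | zero => simp
    | add p q hp hq => simp only [map_add, hp, hq]
    | tmul p q => simp [big, sl, map_smul]
  have hmul : ∀ (w : L ⊗[k] L) (Z : (L ⊗[k] L) ⊗[k] L), big (f12 w * Z) = w * big Z := by
    intro w Z
    induction Z using TensorProduct.induction_on with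
    | zero => simp
    | add p q hp hq => simp only [mul_add, map_add, hp, hq]
    | tmul p q => simp [big, f12, Algebra.mul_smul_comm]
  refine ⟨sl u, hsl u ▸ hi, ?_⟩
  have h := congrArg big hcoc
  rw [hmul, hmap, hmap] at h
  simpa using h

end Algebra

section Field

variable (k : Type u) [Field k]

local notation "fppf" => Scheme.fppfPrecoverage

/-- The spectrum of an algebra over the base. -/
abbrev U (A : Type u) [CommRing A] [Algebra k A] : Over (Spec (CommRingCat.of k)) :=
  Over.mk (Spec.map (CommRingCat.ofHom (algebraMap k A)))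

variable {k}

/-- The morphism of an algebra homomorphism. -/
abbrev uHom {A B : Type u} [CommRing A] [Algebra k A] [CommRing B] [Algebra k B] (f : A →ₐ[k] B) : U k B ⟶ U k A :=
  Over.homMk (Spec.map (CommRingCat.ofHom f.toRingHom)) (by
    change Spec.map _ ≫ Spec.map _ = Spec.map _
    rw [← Spec.map_comp]
    congr 1
    ext r
    exact f.commutes r)

theorem uHom_comp {A B C : Type u} [CommRing A] [Algebra k A] [CommRing B] [Algebra k B] [CommRing C] [Algebra k C]
    (f : A →ₐ[k] B) (g : B →ₐ[k] C) : uHom g ≫ uHom f = uHom (g.comp f) := by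
  ext : 1
  exact (Spec.map_comp (CommRingCat.ofHom f.toRingHom) (CommRingCat.ofHom g.toRingHom)).symm

/-- The value of a section of the multiplicative group over an algebra. -/
def gmVal {A : Type u} [CommRing A] [Algebra k A]
    (z : (CGrpSh2.Gm fppf (Spec (CommRingCat.of k))).obj.obj (op (U k A))) : A :=
  (Scheme.ΓSpecIso (CommRingCat.of A)).hom
    (Red.gmFn ((z : ULift.{u + 1} (Additive (U k A ⟶ Red.Gm (Spec (CommRingCat.of k))))).down.toMul))

theorem gmVal_inj {A : Type u} [CommRing A] [Algebra k A]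
    {z z' : (CGrpSh2.Gm fppf (Spec (CommRingCat.of k))).obj.obj (op (U k A))} (h : gmVal z = gmVal z') : z = z' :=
  ULift.ext _ _ (Additive.toMul.injective (GmPts.gmFn_injective
    ((ConcreteCategory.bijective_of_isIso (Scheme.ΓSpecIso (CommRingCat.of A)).hom).1 h)))

theorem gmVal_add {A : Type u} [CommRing A] [Algebra k A]
    (z z' : (CGrpSh2.Gm fppf (Spec (CommRingCat.of k))).obj.obj (op (U k A))) :
    gmVal (z + z') = gmVal z * gmVal z' := by
  have hmul : ∀ a b : Γ(Spec (CommRingCat.of A), ⊤), (Scheme.ΓSpecIso (CommRingCat.of A)).hom (a * b) =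
      (Scheme.ΓSpecIso (CommRingCat.of A)).hom a * (Scheme.ΓSpecIso (CommRingCat.of A)).hom b := map_mul _
  exact (congrArg (Scheme.ΓSpecIso (CommRingCat.of A)).hom (GmPts.gmFn_mul _ _)).trans (hmul _ _)

theorem isUnit_gmVal {A : Type u} [CommRing A] [Algebra k A]
    (z : (CGrpSh2.Gm fppf (Spec (CommRingCat.of k))).obj.obj (op (U k A))) : IsUnit (gmVal z) :=
  IsUnit.map (Scheme.ΓSpecIso (CommRingCat.of A)).hom.hom
    (show IsUnit (Red.gmFn ((z : ULift.{u + 1} (Additive (U k A ⟶ Red.Gm (Spec (CommRingCat.of k))))).down.toMul) :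
      Γ(Spec (CommRingCat.of A), ⊤)) from GmPts.isUnit_gmFn _)

theorem gmVal_map {A B : Type u} [CommRing A] [Algebra k A] [CommRing B] [Algebra k B] (f : A →ₐ[k] B)
    (z : (CGrpSh2.Gm fppf (Spec (CommRingCat.of k))).obj.obj (op (U k A))) :
    gmVal ((CGrpSh2.Gm fppf (Spec (CommRingCat.of k))).obj.map (uHom f).op z) = f (gmVal z) := by
  refine Eq.trans (congrArg (Scheme.ΓSpecIso (CommRingCat.of B)).hom (GmPts.gmFn_comp _ _)) ?_
  exact ConcreteCategory.congr_hom (Scheme.ΓSpecIso_naturality (CommRingCat.ofHom f.toRingHom)) _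

theorem exists_gmVal_eq {A : Type u} [CommRing A] [Algebra k A] {x : A} (hx : IsUnit x) :
    ∃ z : (CGrpSh2.Gm fppf (Spec (CommRingCat.of k))).obj.obj (op (U k A)), gmVal z = x := by
  have h : IsUnit ((Scheme.ΓSpecIso (CommRingCat.of A)).inv x) := hx.map (Scheme.ΓSpecIso (CommRingCat.of A)).inv.hom
  refine ⟨ULift.up (Additive.ofMul (GmPts.ptOfUnit (T := U k A) h.unit)), ?_⟩
  refine Eq.trans (congrArg (Scheme.ΓSpecIso (CommRingCat.of A)).hom (GmPts.gmFn_ptOfUnit _)) ?_
  rw [IsUnit.unit_spec]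
  exact Iso.inv_hom_id_apply _ _

/-- A covering sieve of the spectrum of a field contains a finite field extension. -/
theorem exists_field_mem (T : Sieve (Over.mk (𝟙 (Spec (CommRingCat.of k)))))
    (hT : T ∈ QuotSh.J fppf (Spec (CommRingCat.of k)) (Over.mk (𝟙 _))) :
    ∃ (L : Type u) (_ : Field L) (_ : Algebra k L) (h : U k L ⟶ Over.mk (𝟙 (Spec (CommRingCat.of k)))),
      T h ∧ Algebra.FiniteType k L := by
  rw [GrothendieckTopology.mem_over_iff] at hT
  obtain ⟨ι, -, C, hC, hmem⟩ :=
    AdeqMod20.exists_affine_refinement (K := fppf) (CommRingCat.of k) (Sieve.overEquiv _ T) hT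
  obtain ⟨hsurj, hP⟩ := (Scheme.ofArrows_mem_precoverage_iff _).1 hC
  obtain ⟨i, y, -⟩ := hsurj (Classical.arbitrary (Spec (CommRingCat.of k)))
  haveI : Nontrivial (C i : Type u) := PrimeSpectrum.nontrivial (y : PrimeSpectrum (C i : Type u))
  haveI : Algebra.FiniteType k (C i : Type u) := by
    have h1 : RingHom.FinitePresentation (algebraMap k (C i : Type u)) :=
      (HasRingHomProperty.Spec_iff (P := @LocallyOfFinitePresentation)).1 (hP i).2
    exact RingHom.finiteType_algebraMap.1 (RingHom.FiniteType.of_finitePresentation h1)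
  obtain ⟨m, hm⟩ := Ideal.exists_maximal (C i : Type u)
  let L := (C i : Type u) ⧸ m
  letI : Field L := Ideal.Quotient.field m
  let q : (C i : Type u) →ₐ[k] L := Ideal.Quotient.mkₐ k m
  refine ⟨L, inferInstance, inferInstance, Over.homMk (Spec.map (CommRingCat.ofHom (algebraMap k L))) (Category.comp_id _),
    ?_, Algebra.FiniteType.of_surjective q (Ideal.Quotient.mkₐ_surjective k m)⟩
  have h2 := (Sieve.overEquiv_iff _ _).1 (hmem i)
  let c : U k L ⟶ Over.mk (Spec.map (CommRingCat.ofHom (algebraMap k (C i : Type u))) ≫ (Over.mk (𝟙 (Spec (CommRingCat.of k)))).hom) :=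
    Over.homMk (Spec.map (CommRingCat.ofHom q.toRingHom)) (by
      change Spec.map _ ≫ Spec.map _ ≫ 𝟙 _ = Spec.map _
      rw [Category.comp_id, ← Spec.map_comp]
      congr 1)
  have h3 := T.downward_closed h2 c
  convert h3 using 1
  exact Over.OverMorphism.ext (by
    change Spec.map _ = Spec.map _ ≫ Spec.map _
    rw [← Spec.map_comp]
    congr 1)

/-- The spectrum of a field extension of finite type covers. -/
theorem sieve_mem (L : Type u) [Field L] [Algebra k L] [Algebra.FiniteType k L]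
    (h : U k L ⟶ Over.mk (𝟙 (Spec (CommRingCat.of k)))) :
    Sieve.ofArrows _ (fun _ : PUnit.{u + 1} => h) ∈ QuotSh.J fppf (Spec (CommRingCat.of k)) (Over.mk (𝟙 _)) := by
  have hh : h.left = Spec.map (CommRingCat.ofHom (algebraMap k L)) :=
    (Category.comp_id h.left).symm.trans (Over.w h)
  rw [GrothendieckTopology.mem_over_iff]
  refine (Scheme.fppfPrecoverage).toGrothendieck.superset_covering ?_
    (Precoverage.generate_mem_toGrothendieck (J := fppf)
      (R := Presieve.ofArrows (fun _ : PUnit.{u + 1} => (U k L).left) (fun _ => h.left)) ?_)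
  · refine (Sieve.generate_le_iff _ _).2 ?_
    rintro Z g ⟨⟩
    refine (Sieve.overEquiv_iff _ _).2 ?_
    let e : Over.mk (h.left ≫ (Over.mk (𝟙 (Spec (CommRingCat.of k)))).hom) ≅ U k L :=
      Over.isoMk (Iso.refl _) ((Category.id_comp _).trans (Over.w h).symm)
    have he : Over.homMk (U := Over.mk (h.left ≫ (Over.mk (𝟙 (Spec (CommRingCat.of k)))).hom))
        (V := Over.mk (𝟙 (Spec (CommRingCat.of k)))) h.left rfl = e.hom ≫ h := by
      ext : 1
      exact (Category.id_comp _).symm
    have hm : Sieve.ofArrows _ (fun _ : PUnit.{u + 1} => h) (e.hom ≫ h) :=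
      Sieve.downward_closed _ (Sieve.ofArrows_mk _ _ PUnit.unit) _
    exact (congrArg (fun t => Sieve.ofArrows _ (fun _ : PUnit.{u + 1} => h) t) he).mpr hm
  · refine (Scheme.ofArrows_mem_precoverage_iff _).2 ⟨fun x => ?_, fun _ => ?_⟩
    · exact ⟨PUnit.unit, (Classical.arbitrary (Spec (CommRingCat.of L)) : Spec (CommRingCat.of L)), Subsingleton.elim (α := PrimeSpectrum k) _ _⟩
    · rw [hh]
      refine ⟨(HasRingHomProperty.Spec_iff (P := @Flat)).2 (RingHom.flat_algebraMap_iff.2 inferInstance),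
        (HasRingHomProperty.Spec_iff (P := @LocallyOfFinitePresentation)).2 ?_⟩
      exact RingHom.finitePresentation_algebraMap.2 (Algebra.FinitePresentation.of_finiteType.1 inferInstance)

/-- Sections lift along a quotient of an injection of the multiplicative group. -/
theorem exists_lift {B D : BigSite.Ab fppf (Spec (CommRingCat.of k))}
    (f : CGrpSh2.Gm fppf (Spec (CommRingCat.of k)) ⟶ B) (g : B ⟶ D) (w : f ≫ g = 0)
    (hC : (ShortComplex.mk f g w).ShortExact)
    (s : D.obj.obj (op (Over.mk (𝟙 (Spec (CommRingCat.of k)))))) :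
    ∃ t, g.hom.app (op (Over.mk (𝟙 (Spec (CommRingCat.of k))))) t = s := by
  haveI := hC.epi_g
  haveI : Sheaf.IsLocallySurjective g := (Sheaf.isLocallySurjective_iff_epi' (φ := g)).2 inferInstance
  obtain ⟨L, _, _, h, ⟨t, ht⟩, hft⟩ := exists_field_mem _ (Presheaf.imageSieve_mem _ g.hom s)
  haveI := hft
  let p1 : U k (L ⊗[k] L) ⟶ U k L := uHom Algebra.TensorProduct.includeLeft
  let p2 : U k (L ⊗[k] L) ⟶ U k L := uHom Algebra.TensorProduct.includeRight
  have hp : p1 ≫ h = p2 ≫ h := Over.mkIdTerminal.hom_ext _ _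
  have hex := @AdeqMod20.sections_exact _ _ hC
  obtain ⟨w₀, hw⟩ := ((hex (U k (L ⊗[k] L))).2 (B.obj.map p1.op t - B.obj.map p2.op t)).1 (by
    rw [map_sub, NatTrans.naturality_apply, NatTrans.naturality_apply, ht, AdeqMod20.map_comp_app,
      AdeqMod20.map_comp_app, hp, sub_self])
  have hcoc : (CGrpSh2.Gm fppf (Spec (CommRingCat.of k))).obj.map (uHom f13).op w₀ =
      (CGrpSh2.Gm fppf (Spec (CommRingCat.of k))).obj.map (uHom f12).op w₀ +
        (CGrpSh2.Gm fppf (Spec (CommRingCat.of k))).obj.map (uHom f23).op w₀ := by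
    apply (hex _).1
    simp only [map_add, NatTrans.naturality_apply]
    erw [hw]
    simp only [map_sub, AdeqMod20.map_comp_app, p1, p2, uHom_comp]
    have e1 : (f13 (k := k) (L := L)).comp (Algebra.TensorProduct.includeLeft : L →ₐ[k] L ⊗[k] L) =
        (f12 (k := k) (L := L)).comp (Algebra.TensorProduct.includeLeft : L →ₐ[k] L ⊗[k] L) := by ext a; simp
    have e2 : (f13 (k := k) (L := L)).comp (Algebra.TensorProduct.includeRight : L →ₐ[k] L ⊗[k] L) =
        (f23 (k := k) (L := L)).comp (Algebra.TensorProduct.includeRight : L →ₐ[k] L ⊗[k] L) := by ext a; simp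
    have e3 : (f23 (k := k) (L := L)).comp (Algebra.TensorProduct.includeLeft : L →ₐ[k] L ⊗[k] L) =
        (f12 (k := k) (L := L)).comp (Algebra.TensorProduct.includeRight : L →ₐ[k] L ⊗[k] L) := by ext a; simp
    rw [e1, e2, e3]
    abel
  have hcoc' := congrArg gmVal hcoc
  rw [gmVal_add, gmVal_map, gmVal_map, gmVal_map] at hcoc'
  obtain ⟨x, hx0, hx⟩ := exists_unit_of_cocycle (gmVal w₀) (isUnit_gmVal w₀) hcoc'
  obtain ⟨y, hy⟩ := exists_gmVal_eq (k := k) (isUnit_iff_ne_zero.2 hx0)
  have hy' : (CGrpSh2.Gm fppf (Spec (CommRingCat.of k))).obj.map p1.op y =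
      w₀ + (CGrpSh2.Gm fppf (Spec (CommRingCat.of k))).obj.map p2.op y := gmVal_inj (by
    rw [gmVal_add, gmVal_map, gmVal_map, hy]
    exact hx)
  let v' := t - f.hom.app (op (U k L)) y
  have hdv : B.obj.map p1.op v' = B.obj.map p2.op v' := by
    simp only [v', map_sub, ← NatTrans.naturality_apply]
    erw [hy']
    rw [map_add]
    erw [hw]
    abel
  have hcov := sieve_mem L h
  have hs₂ := B.property
  rw [Presheaf.isSheaf_iff_isSheaf_forget _ _ (forget AddCommGrpCat.{u + 1}), isSheaf_iff_isSheaf_of_type] at hs₂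
  have hcompv : Presieve.Arrows.Compatible (B.obj ⋙ forget AddCommGrpCat.{u + 1})
      (fun _ : PUnit.{u + 1} => h) (fun _ => v') := by
    intro i j Z gi gj _
    let m : Z.left ⟶ Spec (CommRingCat.of (L ⊗[k] L)) :=
      pullback.lift gi.left gj.left ((Over.w gi).trans (Over.w gj).symm) ≫ (pullbackSpecIso k L L).hom
    have hm1 : m ≫ p1.left = gi.left := by
      change m ≫ Spec.map (CommRingCat.ofHom Algebra.TensorProduct.includeLeftRingHom) = gi.left
      rw [Category.assoc, pullbackSpecIso_hom_fst]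
      exact pullback.lift_fst _ _ _
    have hm2 : m ≫ p2.left = gj.left := by
      change m ≫ Spec.map (CommRingCat.ofHom (RingHomClass.toRingHom (Algebra.TensorProduct.includeRight : L →ₐ[k] L ⊗[k] L))) = gj.left
      rw [Category.assoc, pullbackSpecIso_hom_snd]
      exact pullback.lift_snd _ _ _
    let γ : Z ⟶ U k (L ⊗[k] L) := Over.homMk m (by
      rw [← Over.w p1]
      exact ((Category.assoc _ _ _).symm.trans (congrArg (· ≫ (U k L).hom) hm1)).trans (Over.w gi))
    have h1 : gi = γ ≫ p1 := Over.OverMorphism.ext hm1.symm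
    have h2 : gj = γ ≫ p2 := Over.OverMorphism.ext hm2.symm
    rw [h1, h2]
    exact (AdeqMod20.map_comp_app B.obj γ p1 v').symm.trans
      ((congrArg _ hdv).trans (AdeqMod20.map_comp_app B.obj γ p2 v'))
  obtain ⟨t₀, ht₀, -⟩ := (Presieve.isSheafFor_arrows_iff _ _).1
    ((Presieve.isSheafFor_iff_generate _).2 (hs₂ _ hcov)) (fun _ => v') hcompv
  refine ⟨t₀, ?_⟩
  have hs₃ := D.property
  rw [Presheaf.isSheaf_iff_isSheaf_forget _ _ (forget AddCommGrpCat.{u + 1}), isSheaf_iff_isSheaf_of_type] at hs₃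
  refine ((Presieve.isSheafFor_iff_generate _).2 (hs₃ _ hcov)).isSeparatedFor.ext fun Y a ha => ?_
  obtain ⟨i⟩ := ha
  refine ((NatTrans.naturality_apply g.hom _ t₀).symm.trans (congrArg _ (ht₀ i))).trans ?_
  show g.hom.app (op (U k L)) v' = _
  rw [map_sub, ht, ((hex (U k L)).2 _).2 ⟨y, rfl⟩, sub_zero]
  rfl

/-- Hilbert 90 on the big fppf site of a field. -/
theorem subsingleton_H_one (k : Type u) [Field k] :
    Subsingleton (BigSite.H fppf (Spec (CommRingCat.of k)) (CGrpSh2.Gm fppf (Spec (CommRingCat.of k))) 1) := by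
  refine subsingleton_of_forall_eq 0 fun x => ?_
  obtain ⟨y, rfl⟩ := PullH25.exists_comp_extClass (n := 0) x
  obtain ⟨φ, rfl⟩ := (Abelian.Ext.mk₀_bijective _ _).2 y
  let hT : IsTerminal (Over.mk (𝟙 (Spec (CommRingCat.of k)))) := Over.mkIdTerminal
  let C := ShortComplex.mk (Injective.ι (CGrpSh2.Gm fppf (Spec (CommRingCat.of k))))
    (cokernel.π (Injective.ι (CGrpSh2.Gm fppf (Spec (CommRingCat.of k))))) (cokernel.condition _)
  have hC : C.ShortExact := PullH25.injSES_shortExact _
  obtain ⟨t, ht⟩ := exists_lift C.f C.g C.zero hC (Sheaf.H.equiv₀ C.X₃ hT (Abelian.Ext.mk₀ φ))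
  have hψ : Abelian.Ext.addEquiv₀ ((Sheaf.H.equiv₀ C.X₂ hT).symm t) ≫ C.g = φ := by
    refine (Sheaf.H.addEquiv₀_map C.g _).symm.trans ?_
    rw [Sheaf.H.equiv₀_symm_naturality, ht, AddEquiv.symm_apply_apply]
    exact Abelian.Ext.addEquiv₀.apply_symm_apply φ
  rw [← hψ, ← Abelian.Ext.mk₀_comp_mk₀, Abelian.Ext.comp_assoc_of_second_deg_zero]
  erw [hC.comp_extClass]
  rw [Abelian.Ext.comp_zero]

/-- The first fppf cohomology of a pushforward injects. -/
theorem subsingleton_H_one_dir {X' X : Scheme.{u}} (f : X' ⟶ X) [IsFinite f] (G : EtFppf.AbF X')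
    (h : Subsingleton (BigSite.H fppf X' G 1)) :
    Subsingleton (BigSite.H fppf X ((BigSite.pushBig fppf f AddCommGrpCat.{u + 1}).obj G) 1) := by
  refine subsingleton_of_forall_eq 0 fun x => ?_
  refine BigEt.Fppf.eq_zero_of_transpose_eq_zero f 0 G (fun W g j hj hj' => absurd hj' (by omega)) x ?_
  obtain ⟨e⟩ := BigEt.Fppf.exists_resZb f
  have hz := Subsingleton.elim (h := h) ((Abelian.Ext.mk₀ e.hom).comp
    ((x.mapExactFunctor (BigEt.Fppf.res f)).comp (Abelian.Ext.mk₀ ((BigEt.Fppf.dirAdj f).counit.app G)) (add_zero 1))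
    (zero_add 1)) 0
  have := congrArg (fun z => (Abelian.Ext.mk₀ e.inv).comp z (zero_add 1)) hz
  simpa using this

end Field

end GrothLib.H90Fppf13
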